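import Groth.Prelude.Def_Red
import Mathlib.RingTheory.RootsOfUnity.AlgebraicallyClosed
import Mathlib.FieldTheory.IsAlgClosed.AlgebraicClosure
import Mathlib.RingTheory.Nilpotent.Lemmas

/-!
An alternating bimultiplicative pairing on `μ_n` with values in the units is trivial.
-/

universe u

open MonoidAlgebra

namespace GrothLib.MuPairing3

/-- Coefficient of a product of elements supported on the two factors. -/
theorem coeff_inl_mul_inr {C M : Type*} [CommRing C] [CommMonoid M] (x y : MonoidAlgebra C M) (j k : M) :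
    (mapDomainAlgHom C C (MonoidHom.inl M M) x * mapDomainAlgHom C C (MonoidHom.inr M M) y).coeff (j, k) =
      x.coeff j * y.coeff k := by
  classical
  induction x using MonoidAlgebra.induction_linear with
  | zero => simp
  | add a b ha hb => simp only [map_add, add_mul, coeff_add, Finsupp.add_apply, ha, hb]
  | single m r =>
    induction y using MonoidAlgebra.induction_linear with
    | zero => simp
    | add a b ha hb => simp only [map_add, mul_add, coeff_add, Finsupp.add_apply, ha, hb]
    | single m' r' =>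
      simp only [mapDomainAlgHom_apply, mapDomain_single, single_mul_single, coeff_single, Finsupp.single_apply,
        MonoidHom.inl_apply, MonoidHom.inr_apply, Prod.mk_mul_mk, mul_one, one_mul, Prod.mk.injEq]
      split_ifs <;> simp_all

theorem coeff_diag {C M : Type*} [CommRing C] [CommMonoid M] [DecidableEq M] (x : MonoidAlgebra C M) (j k : M) :
    (mapDomainAlgHom C C ((MonoidHom.id M).prod (MonoidHom.id M)) x).coeff (j, k) =
      if j = k then x.coeff j else 0 := by
  induction x using MonoidAlgebra.induction_linear with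
  | zero => simp
  | add a b ha hb => simp only [map_add, coeff_add, Finsupp.add_apply, ha, hb]; split_ifs <;> simp
  | single m r =>
    simp only [mapDomainAlgHom_apply, mapDomain_single, coeff_single, Finsupp.single_apply,
      MonoidHom.prod_apply, MonoidHom.id_apply, Prod.mk.injEq]
    by_cases h₁ : m = j <;> by_cases h₂ : m = k <;> simp [h₁, h₂]
    all_goals aesop

variable {R : Type u} [CommRing R] {n : ℕ}


/-- The roots of unity of order dividing `n` in an algebraically closed field kill only the trivial exponent. -/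
theorem exists_root_detecting [NeZero n] (K : Type u) [Field K] [IsAlgClosed K] :
    ∃ (m : ℕ) (η : K), 0 < m ∧ η ^ m = 1 ∧ η ^ n = 1 ∧
      (∀ ζ : K, ζ ^ n = 1 → ∃ i : ℕ, η ^ i = ζ) ∧
      ∀ j : ZMod n, m • j = 0 → η ^ j.val = 1 → j = 0 := by
  classical
  obtain ⟨p, hp⟩ := ExpChar.exists K
  obtain ⟨e, m', hm', hn⟩ : ∃ e m' : ℕ, ((m' : ℕ) : K) ≠ 0 ∧ n = p ^ e * m' := by
    rcases hp with _ | ⟨hprime⟩
    · exact ⟨0, n, by exact_mod_cast NeZero.ne n, by simp⟩
    · obtain ⟨e, m', hndvd, hn⟩ := Nat.exists_eq_pow_mul_and_not_dvd (NeZero.ne n) p hprime.ne_one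
      exact ⟨e, m', fun h => hndvd ((CharP.cast_eq_zero_iff K p m').mp h), hn⟩
  haveI : NeZero (m' : K) := ⟨hm'⟩
  have hm0 : 0 < m' := Nat.pos_of_ne_zero fun h => hm' (by simp [h])
  obtain ⟨η, hη⟩ := HasEnoughRootsOfUnity.exists_primitiveRoot K m'
  refine ⟨m', η, hm0, hη.pow_eq_one, by rw [hn, mul_comm, pow_mul, hη.pow_eq_one, one_pow], ?_, ?_⟩
  · intro ζ hζ
    rw [hn] at hζ
    haveI : NeZero m' := ⟨hm0.ne'⟩
    obtain ⟨i, -, hi⟩ := hη.eq_pow_of_pow_eq_one ((ExpChar.pow_prime_pow_mul_eq_one_iff p e m' ζ).mp hζ)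
    exact ⟨i, hi⟩
  · intro j hj hjη
    have h1 : m' ∣ j.val := (hη.pow_eq_one_iff_dvd _).mp hjη
    have h2 : n ∣ m' * j.val := by
      rw [← ZMod.natCast_eq_zero_iff, Nat.cast_mul, ZMod.natCast_zmod_val, ← nsmul_eq_mul, hj]
    have h2' : m' * p ^ e ∣ m' * j.val := ((mul_comm m' (p ^ e)).trans hn.symm).dvd.trans h2
    have h3 : p ^ e ∣ j.val := Nat.dvd_of_mul_dvd_mul_left hm0 h2'
    have hcop : Nat.Coprime (p ^ e) m' := by
      rcases hp with _ | ⟨hprime⟩
      · simp
      · exact (hprime.coprime_iff_not_dvd.mpr fun h => hm' ((CharP.cast_eq_zero_iff K p m').mpr h)).pow_left e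
    have h4 : n ∣ j.val := hn.dvd.trans (hcop.mul_dvd_of_dvd_of_dvd h3 h1)
    have h5 : ((j.val : ℕ) : ZMod n) = 0 := (ZMod.natCast_eq_zero_iff _ _).mpr h4
    rwa [ZMod.natCast_zmod_val] at h5

variable (u : ∀ (C : Type u) [CommRing C] [Algebra R C], ((Multiplicative (ZMod n)) →* C) → ((Multiplicative (ZMod n)) →* C) → C)
  (hnat : ∀ (C D : Type u) [CommRing C] [Algebra R C] [CommRing D] [Algebra R D] (h : C →ₐ[R] D) (a b : (Multiplicative (ZMod n)) →* C),
    u D ((h : C →* D).comp a) ((h : C →* D).comp b) = h (u C a b))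
  (hl : ∀ (C : Type u) [CommRing C] [Algebra R C] (a a' b : (Multiplicative (ZMod n)) →* C), u C (a * a') b = u C a b * u C a' b)
  (hr : ∀ (C : Type u) [CommRing C] [Algebra R C] (a b b' : (Multiplicative (ZMod n)) →* C), u C a (b * b') = u C a b * u C a b')
  (h1 : ∀ (C : Type u) [CommRing C] [Algebra R C] (a : (Multiplicative (ZMod n)) →* C), u C a 1 = 1)
  (halt : ∀ (C : Type u) [CommRing C] [Algebra R C] (a : (Multiplicative (ZMod n)) →* C), u C a a = 1)

/-- The constant part of a character. -/
noncomputable def toMA {C : Type u} [CommRing C] [Algebra R C] (a : (Multiplicative (ZMod n)) →* C) : (Multiplicative (ZMod n)) →* MonoidAlgebra C (Multiplicative (ZMod n)) :=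
  ((singleOneAlgHom (R := R) : C →ₐ[R] MonoidAlgebra C (Multiplicative (ZMod n))) : C →* MonoidAlgebra C (Multiplicative (ZMod n))).comp a

/-- The pairing against the universal point. -/
noncomputable def univVal {C : Type u} [CommRing C] [Algebra R C] (a : (Multiplicative (ZMod n)) →* C) : MonoidAlgebra C (Multiplicative (ZMod n)) :=
  u (MonoidAlgebra C (Multiplicative (ZMod n))) (toMA (R := R) a) (MonoidAlgebra.of C (Multiplicative (ZMod n)))

include hnat in
theorem lift_univVal {C : Type u} [CommRing C] [Algebra R C] (a b : (Multiplicative (ZMod n)) →* C) :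
    MonoidAlgebra.lift C C (Multiplicative (ZMod n)) b (univVal u a) = u C a b := by
  have h := hnat (MonoidAlgebra C (Multiplicative (ZMod n))) C ((MonoidAlgebra.lift C C (Multiplicative (ZMod n)) b).restrictScalars R) (toMA (R := R) a)
    (MonoidAlgebra.of C (Multiplicative (ZMod n)))
  have e1 : (((MonoidAlgebra.lift C C (Multiplicative (ZMod n)) b).restrictScalars R : MonoidAlgebra C (Multiplicative (ZMod n)) →ₐ[R] C) :
      MonoidAlgebra C (Multiplicative (ZMod n)) →* C).comp (toMA (R := R) a) = a := by
    ext x; simp [toMA]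
  have e2 : (((MonoidAlgebra.lift C C (Multiplicative (ZMod n)) b).restrictScalars R : MonoidAlgebra C (Multiplicative (ZMod n)) →ₐ[R] C) :
      MonoidAlgebra C (Multiplicative (ZMod n)) →* C).comp (MonoidAlgebra.of C (Multiplicative (ZMod n))) = b := by
    ext x; simp
  rw [e1, e2] at h
  exact h.symm

include hnat in
theorem map_univVal {C D : Type u} [CommRing C] [Algebra R C] [CommRing D] [Algebra R D] (h : C →ₐ[R] D)
    (a : (Multiplicative (ZMod n)) →* C) : mapAlgHom (Multiplicative (ZMod n)) h (univVal u a) = univVal u ((h : C →* D).comp a) := by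
  have h' := hnat (MonoidAlgebra C (Multiplicative (ZMod n))) (MonoidAlgebra D (Multiplicative (ZMod n))) (mapAlgHom (Multiplicative (ZMod n)) h) (toMA (R := R) a)
    (MonoidAlgebra.of C (Multiplicative (ZMod n)))
  have e1 : ((mapAlgHom (Multiplicative (ZMod n)) h : MonoidAlgebra C (Multiplicative (ZMod n)) →ₐ[R] MonoidAlgebra D (Multiplicative (ZMod n))) :
      MonoidAlgebra C (Multiplicative (ZMod n)) →* MonoidAlgebra D (Multiplicative (ZMod n))).comp (toMA (R := R) a) = toMA (R := R) ((h : C →* D).comp a) := by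
    ext x; simp [toMA]
  have e2 : ((mapAlgHom (Multiplicative (ZMod n)) h : MonoidAlgebra C (Multiplicative (ZMod n)) →ₐ[R] MonoidAlgebra D (Multiplicative (ZMod n))) :
      MonoidAlgebra C (Multiplicative (ZMod n)) →* MonoidAlgebra D (Multiplicative (ZMod n))).comp (MonoidAlgebra.of C (Multiplicative (ZMod n))) = MonoidAlgebra.of D (Multiplicative (ZMod n)) := by
    ext x; simp
  rw [e1, e2] at h'
  exact h'.symm

include hnat hr in
theorem univVal_coeff_mul {C : Type u} [CommRing C] [Algebra R C] (a : (Multiplicative (ZMod n)) →* C) (j k : (Multiplicative (ZMod n))) :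
    (univVal u a).coeff j * (univVal u a).coeff k = if j = k then (univVal u a).coeff j else 0 := by
  classical
  let φ : ((Multiplicative (ZMod n)) →* (Multiplicative (ZMod n)) × (Multiplicative (ZMod n))) → (MonoidAlgebra C (Multiplicative (ZMod n)) →ₐ[R] MonoidAlgebra C ((Multiplicative (ZMod n)) × (Multiplicative (ZMod n)))) := fun f =>
    (mapDomainAlgHom C C f).restrictScalars R
  have key : ∀ f : (Multiplicative (ZMod n)) →* (Multiplicative (ZMod n)) × (Multiplicative (ZMod n)), φ f (univVal u a) = u (MonoidAlgebra C ((Multiplicative (ZMod n)) × (Multiplicative (ZMod n))))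
      (((singleOneAlgHom (R := R) : C →ₐ[R] MonoidAlgebra C ((Multiplicative (ZMod n)) × (Multiplicative (ZMod n)))) : C →* MonoidAlgebra C ((Multiplicative (ZMod n)) × (Multiplicative (ZMod n)))).comp a)
      ((MonoidAlgebra.of C ((Multiplicative (ZMod n)) × (Multiplicative (ZMod n)))).comp f) := by
    intro f
    have h' := hnat (MonoidAlgebra C (Multiplicative (ZMod n))) (MonoidAlgebra C ((Multiplicative (ZMod n)) × (Multiplicative (ZMod n)))) (φ f) (toMA (R := R) a) (MonoidAlgebra.of C (Multiplicative (ZMod n)))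
    have e1 : ((φ f : MonoidAlgebra C (Multiplicative (ZMod n)) →ₐ[R] MonoidAlgebra C ((Multiplicative (ZMod n)) × (Multiplicative (ZMod n)))) :
        MonoidAlgebra C (Multiplicative (ZMod n)) →* MonoidAlgebra C ((Multiplicative (ZMod n)) × (Multiplicative (ZMod n)))).comp (toMA (R := R) a) =
        ((singleOneAlgHom (R := R) : C →ₐ[R] MonoidAlgebra C ((Multiplicative (ZMod n)) × (Multiplicative (ZMod n)))) : C →* MonoidAlgebra C ((Multiplicative (ZMod n)) × (Multiplicative (ZMod n)))).comp a := by
      ext x; simp [φ, toMA]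
    have e2 : ((φ f : MonoidAlgebra C (Multiplicative (ZMod n)) →ₐ[R] MonoidAlgebra C ((Multiplicative (ZMod n)) × (Multiplicative (ZMod n)))) :
        MonoidAlgebra C (Multiplicative (ZMod n)) →* MonoidAlgebra C ((Multiplicative (ZMod n)) × (Multiplicative (ZMod n)))).comp (MonoidAlgebra.of C (Multiplicative (ZMod n))) =
        (MonoidAlgebra.of C ((Multiplicative (ZMod n)) × (Multiplicative (ZMod n)))).comp f := by
      ext x; simp [φ]
    rw [e1, e2] at h'
    exact h'.symm
  have e : (MonoidAlgebra.of C ((Multiplicative (ZMod n)) × (Multiplicative (ZMod n)))).comp ((MonoidHom.id (Multiplicative (ZMod n))).prod (MonoidHom.id (Multiplicative (ZMod n)))) =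
      (MonoidAlgebra.of C ((Multiplicative (ZMod n)) × (Multiplicative (ZMod n)))).comp (MonoidHom.inl (Multiplicative (ZMod n)) (Multiplicative (ZMod n))) *
        (MonoidAlgebra.of C ((Multiplicative (ZMod n)) × (Multiplicative (ZMod n)))).comp (MonoidHom.inr (Multiplicative (ZMod n)) (Multiplicative (ZMod n))) := by
    ext x; simp
  have h := key ((MonoidHom.id (Multiplicative (ZMod n))).prod (MonoidHom.id (Multiplicative (ZMod n))))
  rw [e, hr, ← key, ← key] at h
  have h2 := congrArg (fun z => z.coeff (j, k)) h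
  simp only [φ, AlgHom.restrictScalars_apply] at h2
  rw [coeff_diag, coeff_inl_mul_inr] at h2
  exact h2.symm

variable [NeZero n]

include hnat h1 in
theorem univVal_coeff_sum {C : Type u} [CommRing C] [Algebra R C] (a : (Multiplicative (ZMod n)) →* C) :
    ∑ j : (Multiplicative (ZMod n)), (univVal u a).coeff j = 1 := by
  classical
  have h := lift_univVal u hnat a (1 : (Multiplicative (ZMod n)) →* C)
  rw [h1] at h
  rw [← h]
  conv_rhs => rw [← MonoidAlgebra.sum_coeff_single (univVal u a)]
  rw [map_finsuppSum, Finsupp.sum_fintype _ _ fun i => by simp]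
  simp

include hnat hl hr h1 halt in
theorem univVal_field {K : Type u} [Field K] [IsAlgClosed K] [Algebra R K] (a : (Multiplicative (ZMod n)) →* K) :
    univVal u a = single 1 1 := by
  classical
  have hone : ∀ b : (Multiplicative (ZMod n)) →* K, ∃ j, univVal u b = single j 1 := by
    intro b
    obtain ⟨j, hj⟩ : ∃ j, (univVal u b).coeff j ≠ 0 := by
      by_contra! hc
      simpa [hc] using univVal_coeff_sum u hnat h1 b
    refine ⟨j, MonoidAlgebra.ext (Finsupp.ext fun k => ?_)⟩
    have hjj := univVal_coeff_mul u hnat hr b j j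
    rw [if_pos rfl] at hjj
    have hj1 : (univVal u b).coeff j = 1 := mul_left_cancel₀ hj (by rw [hjj, mul_one])
    rw [coeff_single, Finsupp.single_apply]
    split_ifs with hjk
    · rw [← hjk, hj1]
    · have := univVal_coeff_mul u hnat hr b j k
      rw [if_neg hjk, hj1, one_mul] at this
      exact this
  choose ψ hψ using hone
  have hψm : ∀ b b', ψ (b * b') = ψ b * ψ b' := by
    intro b b'
    have h : univVal u (b * b') = univVal u b * univVal u b' := by
      have e : toMA (R := R) (b * b') = toMA (R := R) b * toMA (R := R) b' := by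
        ext x; simp [toMA]
      rw [univVal, e, hl]; rfl
    rw [hψ, hψ, hψ, single_mul_single, one_mul] at h
    exact (single_left_inj (one_ne_zero (α := K))).mp h
  let Ψ : ((Multiplicative (ZMod n)) →* K) →* (Multiplicative (ZMod n)) := MonoidHom.mk' ψ hψm
  obtain ⟨m, η, hm, hηm, hηn, hgen, hdet⟩ := exists_root_detecting (n := n) K
  let chr : ∀ ζ : K, ζ ^ n = 1 → ((Multiplicative (ZMod n)) →* K) := fun ζ hζ =>
    { toFun := fun x => ζ ^ x.toAdd.val
      map_one' := by simp
      map_mul' := fun x y => by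
        simp only [toAdd_mul]
        rw [← pow_add, ZMod.val_add, ← pow_eq_pow_mod _ hζ] }
  have hgenA : ∀ b : (Multiplicative (ZMod n)) →* K, ∀ x : (Multiplicative (ZMod n)), b x = b (Multiplicative.ofAdd 1) ^ x.toAdd.val := by
    intro b x
    rw [← map_pow, ← ofAdd_nsmul, nsmul_one, ZMod.natCast_zmod_val, ofAdd_toAdd]
  let b₀ := chr η hηn
  have hb₀m : b₀ ^ m = 1 := by
    refine MonoidHom.ext fun x => ?_
    simp only [MonoidHom.pow_apply, MonoidHom.one_apply, b₀, chr, MonoidHom.coe_mk, OneHom.coe_mk]
    rw [← pow_mul, mul_comm, pow_mul, hηm, one_pow]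
  have h0 : Ψ b₀ = 1 := by
    refine Multiplicative.toAdd.injective (hdet _ ?_ ?_)
    · have h := congrArg Ψ hb₀m
      rw [map_pow, map_one] at h
      rw [← toAdd_pow, h]; rfl
    · have h := halt K b₀
      rw [← lift_univVal u hnat, hψ, lift_single, one_smul] at h
      exact h
  obtain ⟨i, hi⟩ := hgen (a (Multiplicative.ofAdd 1)) (by
    rw [← map_pow, ← ofAdd_nsmul]; simp)
  have ha : a = b₀ ^ i := by
    refine MonoidHom.ext fun x => ?_
    rw [hgenA a x, ← hi, MonoidHom.pow_apply]
    simp only [b₀, chr, MonoidHom.coe_mk, OneHom.coe_mk]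
    rw [← pow_mul, ← pow_mul, mul_comm]
  rw [hψ, ha]
  change single (Ψ (b₀ ^ i)) 1 = single 1 1
  rw [map_pow, h0, one_pow]

include hnat hl hr h1 halt in
/-- An alternating bimultiplicative pairing on `μ_n` is trivial. -/
theorem pairing_trivial (C : Type u) [CommRing C] [Algebra R C] (a b : (Multiplicative (ZMod n)) →* C) : u C a b = 1 := by
  classical
  have h0 : ∀ j : (Multiplicative (ZMod n)), j ≠ 1 → (univVal u a).coeff j = 0 := by
    intro j hj
    have hidem : IsIdempotentElem ((univVal u a).coeff j) := by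
      have := univVal_coeff_mul u hnat hr a j j
      rwa [if_pos rfl] at this
    refine hidem.eq_zero_of_isNilpotent ?_
    rw [← mem_nilradical, nilradical_eq_sInf, Ideal.mem_sInf]
    intro P hP
    haveI : P.IsPrime := hP
    let K := AlgebraicClosure (FractionRing (C ⧸ P))
    let h : C →ₐ[R] K := (IsScalarTower.toAlgHom R (C ⧸ P) K).comp (Ideal.Quotient.mkₐ R P)
    have hz : h ((univVal u a).coeff j) = 0 := by
      rw [← coeff_mapAlgHom, map_univVal u hnat, univVal_field u hnat hl hr h1 halt, coeff_single,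
        Finsupp.single_eq_of_ne hj]
    have hinj : Function.Injective (algebraMap (C ⧸ P) K) := by
      rw [IsScalarTower.algebraMap_eq (C ⧸ P) (FractionRing (C ⧸ P)) K, RingHom.coe_comp]
      exact (RingHom.injective (algebraMap (FractionRing (C ⧸ P)) K)).comp
        (IsFractionRing.injective (C ⧸ P) (FractionRing (C ⧸ P)))
    exact Ideal.Quotient.eq_zero_iff_mem.mp (hinj (hz.trans (map_zero _).symm))
  have hU : univVal u a = single 1 1 := by
    have hs := univVal_coeff_sum u hnat h1 a
    rw [Finset.sum_eq_single (1 : (Multiplicative (ZMod n))) (fun j _ hj => h0 j hj) (by simp)] at hs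
    refine MonoidAlgebra.ext (Finsupp.ext fun k => ?_)
    rw [coeff_single, Finsupp.single_apply]
    split_ifs with hk
    · rw [← hk, hs]
    · exact h0 k (Ne.symm hk)
  rw [← lift_univVal u hnat a b, hU, lift_single, map_one, one_smul]

end GrothLib.MuPairing3
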